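import Groth.Agent.WeilExt.Extend
import Groth.Agent.S15942
import Mathlib.RingTheory.DedekindDomain.Dvr

/-!
# Extension theorems over Dedekind schemes
-/

set_option autoImplicit false

universe u

open CategoryTheory Limits AlgebraicGeometry TopologicalSpace MonoidalCategory CartesianMonoidalCategory IsLocalRing

open scoped MonObj

namespace Groth.Agent.WeilExt

variable {R : Type u} [CommRing R] [IsDedekindDomain R]

theorem isPrincipalIdealRing_atPrime (p : Ideal R) [p.IsPrime] :
    IsPrincipalIdealRing (Localization.AtPrime p) := by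
  by_cases eqbot : p = ⊥
  · let : Field (Localization.AtPrime p) := IsField.toField <| by
      simp [isField_iff_maximalIdeal_eq, ← Localization.AtPrime.map_eq_maximalIdeal, eqbot]
    infer_instance
  · have := IsLocalization.AtPrime.isDiscreteValuationRing_of_dedekind_domain
      R eqbot (Localization.AtPrime p)
    infer_instance

theorem stalk_props (A : CommRingCat.{u}) [IsDedekindDomain A] (s : Spec A) :
    IsPrincipalIdealRing ((Spec A).presheaf.stalk s) ∧ IsRegularLocalRing ((Spec A).presheaf.stalk s) := by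
  let p : PrimeSpectrum A := s
  let e : (Spec A).presheaf.stalk s ≃+* Localization.AtPrime p.asIdeal :=
    (IsLocalization.algEquiv p.asIdeal.primeCompl (Localization.AtPrime p.asIdeal)
      ((Spec.structureSheaf A).presheaf.stalk p)).toRingEquiv.symm
  haveI := isPrincipalIdealRing_atPrime (R := A) p.asIdeal
  exact ⟨IsPrincipalIdealRing.of_surjective e.symm.toRingHom e.symm.surjective,
    IsRegularLocalRing.of_ringEquiv e.symm⟩

theorem isPrincipalIdealRing_stalk (s : Spec (CommRingCat.of R)) :
    IsPrincipalIdealRing ((Spec (CommRingCat.of R)).presheaf.stalk s) :=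
  haveI : IsDedekindDomain (CommRingCat.of R) := inferInstanceAs (IsDedekindDomain R)
  (stalk_props (CommRingCat.of R) s).1

theorem isRegularLocalRing_stalk_spec (s : Spec (CommRingCat.of R)) :
    IsRegularLocalRing ((Spec (CommRingCat.of R)).presheaf.stalk s) :=
  haveI : IsDedekindDomain (CommRingCat.of R) := inferInstanceAs (IsDedekindDomain R)
  (stalk_props (CommRingCat.of R) s).2

/-- the two forms of the generic point -/
theorem exists_iso_generic (A : CommRingCat.{u}) [IsDomain A] (K : Type u) [Field K] [Algebra A K]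
    [IsFractionRing A K] :
    ∃ σ : Spec ((Spec A).presheaf.stalk (genericPoint (Spec A))) ⟶ Spec (CommRingCat.of K),
      IsIso σ ∧ σ ≫ Spec.map (CommRingCat.ofHom (algebraMap A K)) =
        (Spec A).fromSpecStalk (genericPoint (Spec A)) := by
  haveI : IsFractionRing A (Spec A).functionField := functionField_isFractionRing_of_affine A
  let e : K ≃ₐ[A] (Spec A).functionField := IsLocalization.algEquiv (nonZeroDivisors A) _ _
  let i : CommRingCat.of K ≅ (Spec A).functionField := e.toRingEquiv.toCommRingCatIso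
  refine ⟨Spec.map i.hom, inferInstance, ?_⟩
  rw [← Spec.map_comp, Spec.fromSpecStalk_eq']
  congr 1
  ext a
  exact e.commutes a

/-- generic points of fibres over points with principal maximal ideal have codimension at most one -/
theorem coheight_le_one {S X : Scheme.{u}} (f : X ⟶ S) [IsLocallyNoetherian X] (z : X)
    (hp : (maximalIdeal (S.presheaf.stalk (f z))).IsPrincipal)
    (hmax : ∀ w : X, w ⤳ z → f w = f z → w = z) : Order.coheight z ≤ 1 := by
  obtain ⟨π, hπ⟩ := hp
  let φ := (f.stalkMap z).hom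
  haveI : IsLocalHom φ := inferInstanceAs (IsLocalHom (f.stalkMap z).hom)
  have hle : Ideal.span {φ π} ≤ maximalIdeal (X.presheaf.stalk z) := by
    rw [Ideal.span_le, Set.singleton_subset_iff]
    exact map_nonunit φ π (hπ ▸ Submodule.mem_span_singleton_self π)
  have hmin : maximalIdeal (X.presheaf.stalk z) ∈ (Ideal.span {φ π}).minimalPrimes := by
    refine ⟨⟨inferInstance, hle⟩, fun q hq hqle => ?_⟩
    haveI := hq.1
    let qP : Spec (X.presheaf.stalk z) := ⟨q, hq.1⟩
    have hc : PrimeSpectrum.comap φ qP = closedPoint (S.presheaf.stalk (f z)) := by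
      ext1
      refine ((maximalIdeal.isMaximal _).eq_of_le (qP.isPrime.comap φ).ne_top ?_).symm
      rw [hπ, Submodule.span_le, Set.singleton_subset_iff]
      exact hq.2 (Ideal.mem_span_singleton_self _)
    have hw : f (X.fromSpecStalk z qP) = f z := by
      refine (congrArg (fun m => m qP) (Scheme.SpecMap_stalkMap_fromSpecStalk f (x := z))).symm.trans ?_
      show S.fromSpecStalk (f z) (PrimeSpectrum.comap φ qP) = f z
      rw [hc, Scheme.fromSpecStalk_closedPoint]
    have : qP = closedPoint (X.presheaf.stalk z) :=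
      (X.fromSpecStalk z).isEmbedding.injective
        ((hmax _ (CDiv6.fromSpecStalk_specializes qP) hw).trans Scheme.fromSpecStalk_closedPoint.symm)
    rw [show q = maximalIdeal (X.presheaf.stalk z) from congrArg PrimeSpectrum.asIdeal this]
  have h := Ideal.height_le_one_of_isPrincipal_of_mem_minimalPrimes _ _ hmin
  have h2 : ringKrullDim (X.presheaf.stalk z) = Order.coheight z := ringKrullDim_stalk_eq_coheight z
  rw [← IsLocalRing.maximalIdeal_height_eq_ringKrullDim] at h2
  rw [← (WithBot.coe_inj.1 h2)]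
  exact h

/-- the fibre generisation condition is automatic over a Dedekind base -/
theorem exists_fibre_generization_of_coheight {X : Scheme.{u}} (f : X ⟶ Spec (CommRingCat.of R))
    [LocallyOfFiniteType f] (U : X.Opens) (h1 : ∀ y : X, Order.coheight y ≤ 1 → y ∈ U) (x : X) :
    ∃ z : X, z ⤳ x ∧ f z = f x ∧ z ∈ U := by
  haveI : IsLocallyNoetherian X := LocallyOfFiniteType.isLocallyNoetherian f
  let iF := f.fiberι (f x)
  obtain ⟨x', hx'⟩ : x ∈ Set.range iF := by rw [Scheme.Hom.range_fiberι]; rfl
  obtain ⟨z, hzx, hmax⟩ := exists_maximal_generization x'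
  have hr : f (iF z) = f x := by
    have : iF z ∈ Set.range iF := ⟨z, rfl⟩
    rw [Scheme.Hom.range_fiberι] at this
    exact this
  refine ⟨iF z, (hzx.map iF.continuous).trans (specializes_of_eq hx'), hr, h1 _ ?_⟩
  refine coheight_le_one f _ ?_ fun w hw hfw => ?_
  · haveI := isPrincipalIdealRing_stalk (R := R) (f (iF z))
    exact IsPrincipalIdealRing.principal _
  · obtain ⟨w', rfl⟩ : w ∈ Set.range iF := by
      rw [Scheme.Hom.range_fiberι]; exact hfw.trans hr
    rw [hmax w' (iF.isEmbedding.isInducing.specializes_iff.1 hw)]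

/-- a map on the generic fibre extends to an open neighbourhood -/
theorem exists_spread_generic {S : Scheme.{u}} [IsIntegral S] [IsNoetherian S] {Y X : Scheme.{u}}
    (f : Y ⟶ S) [Smooth f] (g : X ⟶ S) [IsSeparated g] [LocallyOfFiniteType g]
    (h0 : pullback f (S.fromSpecStalk (genericPoint S)) ⟶ X) (hh0 : h0 ≫ g = pullback.fst _ _ ≫ f) :
    ∃ (U : Y.Opens) (v : U.toScheme ⟶ X), Dense (U : Set Y) ∧
      Set.range (pullback.fst f (S.fromSpecStalk (genericPoint S))) ⊆ U ∧ v ≫ g = U.ι ≫ f ∧
      ∀ {P : Scheme.{u}} (a : P ⟶ pullback f (S.fromSpecStalk (genericPoint S))) (b : P ⟶ U.toScheme),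
        a ≫ pullback.fst _ _ = b ≫ U.ι → a ≫ h0 = b ≫ v := by
  let π : pullback f (S.fromSpecStalk (genericPoint S)) ⟶ Y := pullback.fst _ _
  have key : ∀ y : ↥(pullback f (S.fromSpecStalk (genericPoint S))),
      ∃ (W : Y.Opens) (v : W.toScheme ⟶ X), π y ∈ W ∧ v ≫ g = W.ι ≫ f ∧
        ∀ {P : Scheme.{u}} (a : P ⟶ pullback f (S.fromSpecStalk (genericPoint S)))
          (b : P ⟶ W.toScheme), a ≫ π = b ≫ W.ι → a ≫ h0 = b ≫ v := by
    intro y
    have hy : f (π y) ⤳ genericPoint S := by
      have : π y ∈ Set.range π := ⟨y, rfl⟩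
      rw [Scheme.Pullback.range_fst, Scheme.range_fromSpecStalk] at this
      exact this
    refine S15942.exists_local_ext f g h0 hh0 (π y) hy h0 (hh0.trans pullback.condition) ?_
    intro C a b h1 h2
    refine congrArg (· ≫ h0) (pullback.hom_ext h1 ?_)
    rw [← h2]
    simp [TopCat.Presheaf.stalkSpecializes_refl]
  choose W v hW hvg hv using key
  haveI : IsReduced Y := AlgSpLib.isReduced_of_smooth f
  let 𝒰 := Scheme.Opens.iSupOpenCover W
  have hglue : ∀ a b, pullback.fst (𝒰.f a) (𝒰.f b) ≫ v a = pullback.snd _ _ ≫ v b := by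
    intro (a : ↥(pullback f (S.fromSpecStalk (genericPoint S))))
      (b : ↥(pullback f (S.fromSpecStalk (genericPoint S))))
    change pullback.fst (Y.homOfLE (le_iSup W a)) (Y.homOfLE (le_iSup W b)) ≫ v a =
      pullback.snd (Y.homOfLE (le_iSup W a)) (Y.homOfLE (le_iSup W b)) ≫ v b
    let T := pullback (Y.homOfLE (le_iSup W a)) (Y.homOfLE (le_iSup W b))
    let ta : T ⟶ (W a).toScheme := pullback.fst _ _
    let tb : T ⟶ (W b).toScheme := pullback.snd _ _
    have htab : ta ≫ (W a).ι = tb ≫ (W b).ι := by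
      rw [← Scheme.homOfLE_ι Y (le_iSup W a), ← Scheme.homOfLE_ι Y (le_iSup W b),
        ← Category.assoc, ← Category.assoc, show ta ≫ _ = tb ≫ _ from pullback.condition]
    refine S15942.ext_of_generic f g (ta ≫ (W a).ι) (ta ≫ v a) (tb ≫ v b) ?_ ?_
    · rw [Category.assoc, hvg, Category.assoc, hvg, ← Category.assoc, ← Category.assoc tb, htab]
    · have h : pullback.fst π (ta ≫ (W a).ι) ≫ π = _ ≫ ta ≫ (W a).ι := pullback.condition
      rw [← Category.assoc, ← Category.assoc, ← hv a (pullback.fst π (ta ≫ (W a).ι)) _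
        (h.trans (Category.assoc _ _ _).symm), ← hv b (pullback.fst π (ta ≫ (W a).ι)) _
        ((h.trans (congrArg (_ ≫ ·) htab)).trans (Category.assoc _ _ _).symm)]
  refine ⟨⨆ y, W y, 𝒰.glueMorphisms v hglue, ?_, fun _ ⟨y, hy⟩ => hy ▸ Opens.mem_iSup.2 ⟨y, hW y⟩, ?_, ?_⟩
  · have hd : DenseRange π := by
      haveI := S15942.isDominant_snd_generic f (𝟙 Y)
      have e : pullback.snd π (𝟙 Y) = pullback.fst π (𝟙 Y) ≫ π := by
        rw [pullback.condition, Category.comp_id]
      have h := (pullback.snd π (𝟙 Y)).denseRange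
      rw [e, DenseRange] at h
      exact h.mono (by rw [Scheme.Hom.comp_base, TopCat.coe_comp]; exact Set.range_comp_subset_range _ _)
    exact hd.mono (by rintro _ ⟨y, rfl⟩; exact Opens.mem_iSup.2 ⟨y, hW y⟩)
  · refine Scheme.Cover.hom_ext 𝒰 _ _ fun (i : ↥(pullback f (S.fromSpecStalk (genericPoint S)))) => ?_
    refine (Scheme.Cover.ι_glueMorphisms_assoc 𝒰 v hglue i g).trans ?_
    exact (hvg i).trans (Scheme.homOfLE_ι_assoc Y (le_iSup W i) f).symm
  · intro P a b hab
    refine Scheme.Cover.hom_ext (𝒰.pullback₁ b) _ _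
      fun (i : ↥(pullback f (S.fromSpecStalk (genericPoint S)))) => ?_
    change pullback.fst b (Y.homOfLE (le_iSup W i)) ≫ a ≫ h0 =
      pullback.fst b (Y.homOfLE (le_iSup W i)) ≫ b ≫ 𝒰.glueMorphisms v hglue
    rw [pullback.condition_assoc, show Y.homOfLE (le_iSup W i) ≫ 𝒰.glueMorphisms v hglue = v i from
      𝒰.ι_glueMorphisms v hglue i, ← Category.assoc]
    refine hv i _ _ ?_
    rw [Category.assoc, hab, pullback.condition_assoc, Scheme.homOfLE_ι]

/-- Maps from the generic fibre of a smooth scheme into a proper group scheme extend. -/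
theorem existsUnique_extension_generic
    {X G : Over (Spec (CommRingCat.of R))} [Smooth X.hom] [GrpObj G] [IsProper G.hom]
    (h0 : pullback X.hom (Spec.map (CommRingCat.ofHom (algebraMap R (FractionRing R)))) ⟶ G.left)
    (hh0 : h0 ≫ G.hom = pullback.fst _ _ ≫ X.hom) :
    ∃! g : X.left ⟶ G.left, g ≫ G.hom = X.hom ∧
      pullback.fst X.hom (Spec.map (CommRingCat.ofHom (algebraMap R (FractionRing R)))) ≫ g = h0 := by
  let S := Spec (CommRingCat.of R)
  haveI : IsDomain (CommRingCat.of R) := inferInstanceAs (IsDomain R)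
  haveI : IsNoetherian S := inferInstance
  let j := Spec.map (CommRingCat.ofHom (algebraMap R (FractionRing R)))
  let η₀ : S := genericPoint S
  obtain ⟨σ, hσ, he⟩ : ∃ σ : Spec (S.presheaf.stalk η₀) ⟶ Spec (CommRingCat.of (FractionRing R)),
      IsIso σ ∧ σ ≫ j = S.fromSpecStalk η₀ :=
    exists_iso_generic (CommRingCat.of R) (FractionRing R)
  let m : pullback X.hom (S.fromSpecStalk η₀) ⟶ pullback X.hom j :=
    pullback.lift (pullback.fst _ _) (pullback.snd _ _ ≫ σ) (by
      rw [pullback.condition, Category.assoc, he])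
  let m' : pullback X.hom j ⟶ pullback X.hom (S.fromSpecStalk η₀) :=
    pullback.lift (pullback.fst _ _) (pullback.snd _ _ ≫ inv σ) (by
      rw [pullback.condition, Category.assoc]
      congr 1
      rw [IsIso.eq_inv_comp]
      exact he)
  have hmm : m' ≫ m = 𝟙 _ := by
    apply pullback.hom_ext
    · rw [Category.assoc, pullback.lift_fst, pullback.lift_fst, Category.id_comp]
    · rw [Category.assoc, pullback.lift_snd, pullback.lift_snd_assoc, Category.assoc, Category.id_comp,
        IsIso.inv_hom_id, Category.comp_id]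
  haveI : Epi m := ⟨fun a b h => by
    rw [← Category.id_comp a, ← hmm, Category.assoc, h, ← Category.assoc, hmm, Category.id_comp]⟩
  obtain ⟨U, v, hUd, hrU, hv, hv0⟩ := exists_spread_generic X.hom G.hom (m ≫ h0) (by
    rw [Category.assoc, hh0, pullback.lift_fst_assoc])
  obtain ⟨V, hUV, g₁, hg₁, hg₁U, hV⟩ :=
    exists_extension_codimTwo (isRegularLocalRing_stalk_spec (R := R)) U hUd v hv
  obtain ⟨g, ⟨hg, hgV⟩, -⟩ := existsUnique_extension (isRegularLocalRing_stalk_spec (R := R)) V hV
    (exists_fibre_generization_of_coheight X.hom V hV) g₁ hg₁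
  have hgU : U.ι ≫ g = v := by
    rw [← Scheme.homOfLE_ι X.left hUV, Category.assoc, hgV, hg₁U]
  have hfac : pullback.fst X.hom (S.fromSpecStalk η₀) ≫ g = m ≫ h0 := by
    let π := pullback.fst X.hom (S.fromSpecStalk η₀)
    let b := IsOpenImmersion.lift U.ι π (by rw [Scheme.Opens.range_ι]; exact hrU)
    have hb : b ≫ U.ι = π := IsOpenImmersion.lift_fac _ _ _
    have h := hv0 (𝟙 _) b ((Category.id_comp _).trans hb.symm)
    rw [Category.id_comp] at h
    exact ((congrArg (· ≫ g) hb).symm.trans ((Category.assoc _ _ _).trans (congrArg (b ≫ ·) hgU))).trans h.symm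
  have huniq : ∀ a b : X.left ⟶ G.left, a ≫ G.hom = b ≫ G.hom →
      pullback.fst X.hom j ≫ a = pullback.fst X.hom j ≫ b → a = b := by
    intro a b hab h
    refine S15942.ext_of_generic X.hom G.hom (𝟙 _) a b hab ?_
    have e1 : pullback.snd (pullback.fst X.hom (S.fromSpecStalk η₀)) (𝟙 X.left) =
        pullback.fst _ _ ≫ m ≫ pullback.fst X.hom j := by
      rw [pullback.lift_fst, pullback.condition, Category.comp_id]
    refine (congrArg (· ≫ a) e1).trans (Eq.trans ?_ (congrArg (· ≫ b) e1).symm)
    simp only [Category.assoc, h]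
  have hg0 : pullback.fst X.hom j ≫ g = h0 := by
    rw [← cancel_epi m, ← Category.assoc, pullback.lift_fst, hfac]
  exact ⟨g, ⟨hg, hg0⟩, fun g' ⟨hg', hg'0⟩ => huniq g' g (hg'.trans hg.symm) (hg'0.trans hg0.symm)⟩

end Groth.Agent.WeilExt
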