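import Groth.Agent.WeilExt.Basic

/-!
# Global forms of the extension theorems
-/

set_option autoImplicit false

universe u

open CategoryTheory Limits AlgebraicGeometry TopologicalSpace MonoidalCategory CartesianMonoidalCategory IsLocalRing

open scoped MonObj

namespace Groth.Agent.WeilExt

open H23 H23.RatPoint

/-- every point has a generization which is maximal -/
theorem exists_maximal_generization {Y : Scheme.{u}} (y : Y) :
    ∃ z : Y, z ⤳ y ∧ ∀ w : Y, w ⤳ z → w = z := by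
  have hirr : IsIrreducible (irreducibleComponent y) := isIrreducible_irreducibleComponent
  have hgen : IsGenericPoint hirr.genericPoint (irreducibleComponent y) :=
    hirr.isGenericPoint_genericPoint isClosed_irreducibleComponent
  refine ⟨hirr.genericPoint, hgen.specializes mem_irreducibleComponent, fun w hw => ?_⟩
  have hsub : irreducibleComponent y ⊆ closure {w} := by
    rw [← hgen.def]
    exact closure_minimal (Set.singleton_subset_iff.2 (specializes_iff_mem_closure.1 hw)) isClosed_closure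
  have heq := (irreducibleComponent_mem_irreducibleComponents y).2
    ((isIrreducible_singleton (x := w)).closure) hsub
  exact (hw.antisymm (hgen.specializes (heq (subset_closure rfl)))).eq

/-- every point has a neighbourhood in which each point shares a generisation with it -/
theorem exists_nhd_common_gen {Y : Scheme.{u}} [IsLocallyNoetherian Y] (y : Y) :
    ∃ W : Y.Opens, y ∈ W ∧ ∀ w ∈ W, ∃ z : Y, z ⤳ w ∧ z ⤳ y := by
  obtain ⟨V, hV, hyV, -⟩ := exists_isAffineOpen_mem_and_subset (x := y) (U := (⊤ : Y.Opens)) trivial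
  haveI : CompactSpace V.toScheme := isCompact_iff_compactSpace.mp hV.isCompact
  haveI : IsNoetherian V.toScheme := { }
  let y' : V.toScheme := ⟨y, hyV⟩
  let 𝒞 : Set (Set V.toScheme) := {C ∈ irreducibleComponents V.toScheme | y' ∉ C}
  have hfin : 𝒞.Finite :=
    (TopologicalSpace.NoetherianSpace.finite_irreducibleComponents (α := V.toScheme)).subset
      (Set.sep_subset _ _)
  have hcl : IsClosed (⋃ C ∈ 𝒞, C) :=
    hfin.isClosed_biUnion fun C hC => isClosed_of_mem_irreducibleComponents C hC.1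
  refine ⟨V.ι ''ᵁ ⟨_, hcl.isOpen_compl⟩, ⟨y', ?_, rfl⟩, ?_⟩
  · simp only [TopologicalSpace.Opens.coe_mk, Set.mem_compl_iff, Set.mem_iUnion, not_exists]
    exact fun C hC h => hC.2 h
  · rintro _ ⟨w, hw, rfl⟩
    have hirr : IsIrreducible (irreducibleComponent w) := isIrreducible_irreducibleComponent
    have hyC : y' ∈ irreducibleComponent w := by
      by_contra hn
      exact hw (Set.mem_biUnion (x := irreducibleComponent w)
        ⟨irreducibleComponent_mem_irreducibleComponents w, hn⟩ mem_irreducibleComponent)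
    have hgen : IsGenericPoint hirr.genericPoint (irreducibleComponent w) :=
      hirr.isGenericPoint_genericPoint isClosed_irreducibleComponent
    exact ⟨V.ι hirr.genericPoint, (hgen.specializes mem_irreducibleComponent).map V.ι.continuous,
      (hgen.specializes hyC).map V.ι.continuous⟩

/-- a dense open contains a generization of every point -/
theorem exists_generization_mem {Y : Scheme.{u}} [IsLocallyNoetherian Y] (U : Y.Opens)
    (hU : Dense (U : Set Y)) (y : Y) : ∃ z : Y, z ⤳ y ∧ z ∈ U := by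
  obtain ⟨z, hzy, hmax⟩ := exists_maximal_generization y
  obtain ⟨W, hzW, hW⟩ := exists_nhd_common_gen z
  obtain ⟨w, hwW, hwU⟩ := hU.inter_open_nonempty W W.2 ⟨z, hzW⟩
  obtain ⟨a, haw, haz⟩ := hW w hwW
  exact ⟨z, hzy, (hmax a haz ▸ haw).mem_open U.2 hwU⟩

/-- a generization in the fibre, inside an open dense in every fibre -/
theorem exists_fibre_generization {S X : Scheme.{u}} (f : X ⟶ S) [LocallyOfFiniteType f]
    (U : X.Opens) (hdense : ∀ x : X, x ∈ closure ((U : Set X) ∩ {y | f y = f x})) (x : X) :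
    ∃ z : X, z ⤳ x ∧ f z = f x ∧ z ∈ U := by
  let iF := f.fiberι (f x)
  haveI : IsLocallyNoetherian (f.fiber (f x)) :=
    @LocallyOfFiniteType.isLocallyNoetherian _ _ (f.fiberToSpecResidueField (f x))
      (MorphismProperty.pullback_snd (P := @LocallyOfFiniteType) f (S.fromSpecResidueField (f x)) ‹_›) _
  have hr : ∀ z, f (iF z) = f x := fun z => by
    have : iF z ∈ Set.range iF := ⟨z, rfl⟩
    rw [Scheme.Hom.range_fiberι] at this
    exact this
  obtain ⟨x', hx'⟩ : x ∈ Set.range iF := by rw [Scheme.Hom.range_fiberι]; rfl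
  have hd : Dense ((iF ⁻¹ᵁ U : (f.fiber (f x)).Opens) : Set (f.fiber (f x))) := fun z => by
    rw [iF.isEmbedding.closure_eq_preimage_closure_image]
    refine closure_mono ?_ (hdense (iF z))
    rintro w ⟨hwU, hw⟩
    obtain ⟨w', rfl⟩ : w ∈ Set.range iF := by
      rw [Scheme.Hom.range_fiberι]; exact hw.trans (hr z)
    exact ⟨w', hwU, rfl⟩
  obtain ⟨z, hz, hzU⟩ := exists_generization_mem _ hd x'
  exact ⟨iF z, (hz.map iF.continuous).trans (specializes_of_eq hx'), hr z, hzU⟩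

/-- a reduced locally noetherian scheme with domains as local rings is locally integral, with
opens stable under specialization -/
theorem exists_integral_component {Y : Scheme.{u}} [IsLocallyNoetherian Y] [IsReduced Y]
    (hd : ∀ y : Y, IsDomain (Y.presheaf.stalk y)) (y : Y) :
    ∃ W : Y.Opens, y ∈ W ∧ IsIntegral W.toScheme ∧ ∀ w p : Y, w ∈ W → w ⤳ p → p ∈ W := by
  obtain ⟨ζ, hζy, hmax⟩ := exists_maximal_generization y
  have hopen : IsOpen {p : Y | ζ ⤳ p} := by
    rw [isOpen_iff_forall_mem_open]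
    intro p hp
    obtain ⟨V, hpV, hV⟩ := exists_nhd_common_gen p
    refine ⟨V, fun w hw => ?_, V.2, hpV⟩
    obtain ⟨z, hzw, hzp⟩ := hV w hw
    haveI := hd p
    have hgen : ∀ a : Y, a ⤳ p → Y.fromSpecStalk p (genericPoint (Spec (Y.presheaf.stalk p))) ⤳ a := by
      intro a ha
      obtain ⟨a', rfl⟩ : a ∈ Set.range (Y.fromSpecStalk p) := by
        rw [Scheme.range_fromSpecStalk]; exact ha
      exact (genericPoint_specializes a').map (Y.fromSpecStalk p).continuous
    have : Y.fromSpecStalk p (genericPoint (Spec (Y.presheaf.stalk p))) = ζ := hmax _ (hgen ζ hp)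
    exact (this ▸ hgen z hzp).trans hzw
  let W : Y.Opens := ⟨{p | ζ ⤳ p}, hopen⟩
  refine ⟨W, hζy, ?_, fun w p hw hwp => Specializes.trans hw hwp⟩
  haveI : IsReduced W.toScheme := isReduced_of_isOpenImmersion W.ι
  haveI : IrreducibleSpace W.toScheme := by
    have hirr : IsIrreducible (W : Set Y) := by
      have : closure ({ζ} : Set Y) = (W : Set Y) := Set.ext fun p => specializes_iff_mem_closure.symm
      rw [← this]
      exact isIrreducible_singleton.closure
    exact Subtype.irreducibleSpace hirr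
  exact isIntegral_of_irreducibleSpace_of_isReduced _

section Dense

variable {S X Y : Scheme.{u}} (pX : X ⟶ S) (pY : Y ⟶ S) [IsSeparated pY] [IsReduced X]
  {U : X.Opens} (f : U.toScheme ⟶ Y)

omit [IsReduced X] in
theorem isDominant_pullback_fst {T : Scheme.{u}} (t : T ⟶ X) [IsOpenImmersion t]
    (hU : Dense (U : Set X)) : IsDominant (pullback.fst t U.ι) := by
  refine ⟨?_⟩
  rw [DenseRange, Scheme.Pullback.range_fst, Scheme.Opens.range_ι]
  exact hU.preimage t.isOpenEmbedding.isOpenMap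

/-- compatible extensions glue -/
theorem glue_extensions (hU : Dense (U : Set X)) {I : Type u} (V : I → X.Opens)
    (g : ∀ i, (V i).toScheme ⟶ Y) (hg : ∀ i, g i ≫ pY = (V i).ι ≫ pX)
    (hgf : ∀ i {P : Scheme.{u}} (a : P ⟶ (V i).toScheme) (b : P ⟶ U.toScheme),
      a ≫ (V i).ι = b ≫ U.ι → a ≫ g i = b ≫ f) :
    ∃ h : (⨆ i, V i).toScheme ⟶ Y, h ≫ pY = (⨆ i, V i).ι ≫ pX ∧
      ∀ i, X.homOfLE (le_iSup V i) ≫ h = g i := by
  let 𝒰 := Scheme.Opens.iSupOpenCover V
  have hglue : ∀ a b, pullback.fst (𝒰.f a) (𝒰.f b) ≫ g a = pullback.snd _ _ ≫ g b := by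
    intro (a : I) (b : I)
    change pullback.fst (X.homOfLE (le_iSup V a)) (X.homOfLE (le_iSup V b)) ≫ g a =
      pullback.snd (X.homOfLE (le_iSup V a)) (X.homOfLE (le_iSup V b)) ≫ g b
    set T := pullback (X.homOfLE (le_iSup V a)) (X.homOfLE (le_iSup V b))
    let ta : T ⟶ (V a).toScheme := pullback.fst _ _
    let tb : T ⟶ (V b).toScheme := pullback.snd _ _
    have htab : ta ≫ (V a).ι = tb ≫ (V b).ι := by
      rw [← Scheme.homOfLE_ι X (le_iSup V a), ← Scheme.homOfLE_ι X (le_iSup V b),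
        ← Category.assoc, ← Category.assoc, show ta ≫ _ = tb ≫ _ from pullback.condition]
    haveI : IsOpenImmersion (ta ≫ (V a).ι) := inferInstance
    haveI : IsReduced T := isReduced_of_isOpenImmersion (ta ≫ (V a).ι)
    haveI := isDominant_pullback_fst (ta ≫ (V a).ι) hU
    refine ext_of_isDominant_of_isSeparated pY ?_ (pullback.fst (ta ≫ (V a).ι) U.ι) ?_
    · rw [Category.assoc, hg, Category.assoc, hg, ← Category.assoc, ← Category.assoc tb]
      exact congrArg (· ≫ pX) htab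
    · have h : pullback.fst (ta ≫ (V a).ι) U.ι ≫ ta ≫ (V a).ι = _ ≫ U.ι := pullback.condition
      have ha := hgf a (pullback.fst (ta ≫ (V a).ι) U.ι ≫ ta) _ ((Category.assoc _ _ _).trans h)
      have hb := hgf b (pullback.fst (ta ≫ (V a).ι) U.ι ≫ tb) _
        ((Category.assoc _ _ _).trans ((congrArg (_ ≫ ·) htab.symm).trans h))
      rw [Category.assoc] at ha hb
      exact ha.trans hb.symm
  refine ⟨𝒰.glueMorphisms g hglue, ?_, fun i => 𝒰.ι_glueMorphisms g hglue i⟩
  refine Scheme.Cover.hom_ext 𝒰 _ _ fun (i : I) => ?_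
  rw [Scheme.Cover.ι_glueMorphisms_assoc]
  refine (hg i).trans ?_
  exact (Scheme.homOfLE_ι_assoc X (le_iSup V i) pX).symm

end Dense

/-- Extension on one integral open piece. -/
theorem exists_piece {S : Scheme.{u}} [IsLocallyNoetherian S] [S.IsSeparated]
    {X G : Over S} [LocallyOfFiniteType G.hom] [IsSeparated G.hom]
    (U : X.left.Opens) (f : U.toScheme ⟶ G.left) (hf : f ≫ G.hom = U.ι ≫ X.hom)
    {X' : Over S} [IsIntegral X'.left] (j : X' ⟶ X) [IsOpenImmersion j.left]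
    (hgen : genericPoint X'.left ∈ j.left ⁻¹ᵁ U) (T : Set X'.left)
    (hT : ∀ φ : gen X' ⟶ G,
      (∀ y : X'.left, y ∈ j.left ⁻¹ᵁ U → DefAt φ y) → ∀ y ∈ T, DefAt φ y) :
    ∃ (V : X.left.Opens) (g : V.toScheme ⟶ G.left), j.left '' T ⊆ V ∧ g ≫ G.hom = V.ι ≫ X.hom ∧
      ∀ {P : Scheme.{u}} (a : P ⟶ V.toScheme) (b : P ⟶ U.toScheme),
        a ≫ V.ι = b ≫ U.ι → a ≫ g = b ≫ f := by
  have : G.left.IsSeparated :=
    ⟨by rw [show terminal.from G.left = G.hom ≫ terminal.from S from (terminal.comp_from G.hom).symm]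
        exact inferInstance⟩
  let U₀ : X'.left.Opens := j.left ⁻¹ᵁ U
  let f₀ : U₀.toScheme ⟶ G.left := IsOpenImmersion.lift U.ι (U₀.ι ≫ j.left) (by
    rintro _ ⟨z, rfl⟩
    rw [Scheme.Opens.range_ι]
    exact z.2) ≫ f
  have hf₀ : f₀ ≫ G.hom = U₀.ι ≫ X'.hom := by
    simp only [f₀, Category.assoc, hf, IsOpenImmersion.lift_fac_assoc, Over.w j]
  let φ : gen X' ⟶ G := Over.homMk (U₀.fromSpecStalkOfMem _ hgen ≫ f₀) (by
    rw [Category.assoc, hf₀, ← Category.assoc]
    exact congrArg (· ≫ X'.hom) (Scheme.Opens.fromSpecStalkOfMem_ι _ _ _))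
  have hφ : ∀ y : X'.left, y ∈ U₀ → DefAt φ y := fun y hy =>
    ⟨Over.homMk (U₀.fromSpecStalkOfMem y hy ≫ f₀) (by
      rw [Category.assoc, hf₀, ← Category.assoc]
      exact congrArg (· ≫ X'.hom) (Scheme.Opens.fromSpecStalkOfMem_ι _ _ _)), by
      ext1
      show Spec.map _ ≫ U₀.fromSpecStalkOfMem y hy ≫ f₀ = U₀.fromSpecStalkOfMem _ hgen ≫ f₀
      rw [← Category.assoc]
      exact congrArg (· ≫ f₀) (RatExtend.specializes_comp_fromSpecStalkOfMem U₀ _ hy hgen)⟩
  obtain ⟨W, hgW, H, hTW, hH, hH₀⟩ := RatExtend.extend X'.hom G.hom φ.left (Over.w φ) T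
    fun y hy => by
      obtain ⟨χ, hχ⟩ := hT φ hφ y hy
      exact ⟨χ.left, Over.w χ, congrArg CommaMorphism.left hχ⟩
  have hrW : Set.range (W.ι ≫ j.left) = ((j.left ''ᵁ W : X.left.Opens) : Set X.left) := by
    rw [Scheme.Hom.comp_base, TopCat.coe_comp, Set.range_comp, Scheme.Opens.range_ι]
    rfl
  let e : (j.left ''ᵁ W).toScheme ⟶ W.toScheme := IsOpenImmersion.lift (W.ι ≫ j.left) (j.left ''ᵁ W).ι
    (by rw [Scheme.Opens.range_ι, hrW])
  have he : e ≫ W.ι ≫ j.left = (j.left ''ᵁ W).ι := IsOpenImmersion.lift_fac _ _ _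
  refine ⟨j.left ''ᵁ W, e ≫ H, Set.image_mono hTW, ?_, fun {P} a b hab => ?_⟩
  · rw [Category.assoc, hH, ← he]
    simp only [Category.assoc, Over.w j]
  -- compare on the intersection
  let I₀ : X'.left.Opens := W ⊓ U₀
  haveI : IsReduced I₀.toScheme := isReduced_of_isOpenImmersion I₀.ι
  haveI : IsDominant (I₀.fromSpecStalkOfMem _ ⟨hgW, hgen⟩) :=
    RatExtend.isDominant_fromSpecStalkOfMem I₀ _
  have key : X'.left.homOfLE (inf_le_left : I₀ ≤ W) ≫ H =
      X'.left.homOfLE (inf_le_right : I₀ ≤ U₀) ≫ f₀ := by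
    refine ext_of_isDominant_of_isSeparated G.hom ?_ (I₀.fromSpecStalkOfMem _ ⟨hgW, hgen⟩) ?_
    · simp only [Category.assoc, hH, hf₀, Scheme.homOfLE_ι_assoc]
    · have e1 : I₀.fromSpecStalkOfMem _ ⟨hgW, hgen⟩ ≫ X'.left.homOfLE (inf_le_left : I₀ ≤ W) =
          W.fromSpecStalkOfMem _ hgW := by
        rw [← cancel_mono W.ι]; simp
      have e2 : I₀.fromSpecStalkOfMem _ ⟨hgW, hgen⟩ ≫ X'.left.homOfLE (inf_le_right : I₀ ≤ U₀) =
          U₀.fromSpecStalkOfMem _ hgen := by
        rw [← cancel_mono U₀.ι]; simp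
      rw [reassoc_of% e1, reassoc_of% e2, hH₀]
      rfl
  let c : P ⟶ X'.left := a ≫ e ≫ W.ι
  have hc : c ≫ j.left = b ≫ U.ι := by rw [← hab, ← he]; simp only [c, Category.assoc]
  let l : P ⟶ I₀.toScheme := IsOpenImmersion.lift I₀.ι c (by
    rw [Scheme.Opens.range_ι]
    rintro _ ⟨z, rfl⟩
    refine ⟨?_, ?_⟩
    · exact (e (a z)).2
    · show (c ≫ j.left) z ∈ U
      rw [hc]
      exact (b z).2)
  have hl : l ≫ I₀.ι = c := IsOpenImmersion.lift_fac _ _ _
  have h1 : l ≫ X'.left.homOfLE (inf_le_left : I₀ ≤ W) = a ≫ e := by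
    rw [← cancel_mono W.ι, Category.assoc, Scheme.homOfLE_ι, hl, Category.assoc]
  have h2 : l ≫ X'.left.homOfLE (inf_le_right : I₀ ≤ U₀) ≫ f₀ = b ≫ f := by
    simp only [f₀, ← Category.assoc]
    congr 1
    rw [← cancel_mono U.ι]
    simp only [Category.assoc, IsOpenImmersion.lift_fac, Scheme.homOfLE_ι_assoc, reassoc_of% hl, hc]
  rw [← Category.assoc, ← h1, Category.assoc, key, h2]

theorem coheight_ι {X : Scheme.{u}} (V : X.Opens) (y : V.toScheme) :
    Order.coheight (V.ι y) = Order.coheight y := by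
  have h : ringKrullDim (X.presheaf.stalk (V.ι y)) = ringKrullDim (V.toScheme.presheaf.stalk y) :=
    ringKrullDim_eq_of_ringEquiv (asIso (V.ι.stalkMap y)).commRingCatIsoToRingEquiv
  rw [ringKrullDim_stalk_eq_coheight, ringKrullDim_stalk_eq_coheight] at h
  exact_mod_cast h

variable {S : Scheme.{u}} [IsLocallyNoetherian S] [S.IsSeparated]

theorem isReduced_smooth (hS : ∀ s : S, IsRegularLocalRing (S.presheaf.stalk s)) {Y : Scheme.{u}}
    (f : Y ⟶ S) [Smooth f] : IsReduced Y := by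
  haveI : ∀ y : Y, _root_.IsReduced (Y.presheaf.stalk y) := fun y => by
    haveI := isRegularLocalRing_stalk hS f y
    haveI := (Groth.Agent.S2821.result (Y.presheaf.stalk y)).1
    infer_instance
  exact isReduced_of_isReduced_stalk Y

theorem exists_component (hS : ∀ s : S, IsRegularLocalRing (S.presheaf.stalk s)) {Y : Scheme.{u}}
    (f : Y ⟶ S) [Smooth f] (y : Y) :
    ∃ W : Y.Opens, y ∈ W ∧ IsIntegral W.toScheme ∧ ∀ w p : Y, w ∈ W → w ⤳ p → p ∈ W := by
  haveI := isReduced_smooth hS f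
  haveI : IsLocallyNoetherian Y := LocallyOfFiniteType.isLocallyNoetherian f
  refine exists_integral_component (fun p => ?_) y
  haveI := isRegularLocalRing_stalk hS f p
  exact (Groth.Agent.S2821.result _).1

/-- Weil's extension theorem. -/
theorem existsUnique_extension (hS : ∀ s : S, IsRegularLocalRing (S.presheaf.stalk s))
    {X G : Over S} [Smooth X.hom] [GrpObj G] [IsSeparated G.hom] [LocallyOfFiniteType G.hom]
    (U : X.left.Opens) (h1 : ∀ y : X.left, Order.coheight y ≤ 1 → y ∈ U)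
    (hfib : ∀ x : X.left, ∃ z : X.left, z ⤳ x ∧ X.hom z = X.hom x ∧ z ∈ U)
    (f : U.toScheme ⟶ G.left) (hf : f ≫ G.hom = U.ι ≫ X.hom) :
    ∃! g : X.left ⟶ G.left, g ≫ G.hom = X.hom ∧ U.ι ≫ g = f := by
  haveI := isReduced_smooth hS X.hom
  have hU : Dense (U : Set X.left) := fun x => by
    obtain ⟨z, hz, -, hzU⟩ := hfib x
    exact hz.mem_closed isClosed_closure (subset_closure hzU)
  have key : ∀ x : X.left, ∃ (V : X.left.Opens) (g : V.toScheme ⟶ G.left), x ∈ V ∧
      g ≫ G.hom = V.ι ≫ X.hom ∧ ∀ {P : Scheme.{u}} (a : P ⟶ V.toScheme) (b : P ⟶ U.toScheme),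
        a ≫ V.ι = b ≫ U.ι → a ≫ g = b ≫ f := by
    intro x
    obtain ⟨X₀, hx, hI, hst⟩ := exists_component hS X.hom x
    haveI := hI
    have hgen : genericPoint X₀.toScheme ∈ X₀.ι ⁻¹ᵁ U := by
      refine h1 _ ?_
      rw [coheight_ι]
      refine le_trans (le_of_eq ?_) zero_le_one
      rw [Order.coheight_eq_zero]
      exact fun b _ => genericPoint_specializes b
    let X' : Over S := Over.mk (X₀.ι ≫ X.hom)
    haveI : IsIntegral X'.left := hI
    let jX : X' ⟶ X := Over.homMk X₀.ι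
    haveI : IsOpenImmersion jX.left := inferInstanceAs (IsOpenImmersion X₀.ι)
    obtain ⟨V, g, hV, hg, hgf⟩ := exists_piece U f hf jX hgen Set.univ fun φ hφ y _ => by
      haveI : Smooth X'.hom := inferInstanceAs (Smooth (X₀.ι ≫ X.hom))
      haveI : Smooth (X' ⊗ X').hom :=
        inferInstanceAs (Smooth (pullback.fst X'.hom X'.hom ≫ X'.hom))
      let Δ : X' ⟶ X' ⊗ X' := lift (𝟙 X') (𝟙 X')
      obtain ⟨N, hN, hNI, hNst⟩ := exists_component hS (X' ⊗ X').hom (Δ.left (genericPoint X'.left))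
      let P : Over S := Over.mk (N.ι ≫ (X' ⊗ X').hom)
      haveI : IsIntegral P.left := hNI
      haveI : Smooth P.hom := inferInstanceAs (Smooth (N.ι ≫ (X' ⊗ X').hom))
      let j : P ⟶ X' ⊗ X' := Over.homMk N.ι
      haveI : IsOpenImmersion j.left := inferInstanceAs (IsOpenImmersion N.ι)
      let D : X' ⟶ P := Over.homMk (IsOpenImmersion.lift N.ι Δ.left (by
        rw [Scheme.Opens.range_ι]
        rintro _ ⟨z, rfl⟩
        exact hNst _ _ hN ((genericPoint_specializes z).map Δ.left.continuous))) (by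
        show _ ≫ N.ι ≫ _ = _
        rw [IsOpenImmersion.lift_fac_assoc, Over.w])
      have hD : D ≫ j = Δ := Over.OverMorphism.ext (IsOpenImmersion.lift_fac _ _ _)
      refine defAt_of_codimOne hS j D hD φ (fun z hz => hφ z (h1 _ ?_)) y ?_
      · exact (coheight_ι X₀ z).trans_le hz
      · obtain ⟨z, hz, hzs, hzU⟩ := hfib (X₀.ι y)
        obtain ⟨z', rfl⟩ : z ∈ Set.range X₀.ι :=
          hz.mem_open X₀.ι.isOpenEmbedding.isOpen_range ⟨y, rfl⟩
        refine ⟨z', ?_, hzs, hφ z' hzU⟩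
        exact X₀.ι.isOpenEmbedding.isInducing.specializes_iff.1 hz
    exact ⟨V, g, hV ⟨⟨x, hx⟩, trivial, rfl⟩, hg, hgf⟩
  choose V g hxV hg hgf using key
  obtain ⟨h, hh, hhg⟩ := glue_extensions X.hom G.hom f hU V g hg hgf
  have htop : (⊤ : X.left.Opens) ≤ ⨆ x, V x := fun x _ => Opens.mem_iSup.2 ⟨x, hxV x⟩
  let gl : X.left ⟶ G.left := X.left.topIso.inv ≫ X.left.homOfLE htop ≫ h
  have hgl : ∀ x, (V x).ι ≫ gl = g x := fun x => by
    rw [← hhg x]
    simp only [gl, ← Category.assoc]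
    congr 1
    rw [← cancel_mono (⨆ x, V x).ι]
    simp only [Category.assoc, Scheme.homOfLE_ι]
    exact (congrArg ((V x).ι ≫ ·) X.left.topIso.inv_hom_id).trans (Category.comp_id _)
  have hglw : gl ≫ G.hom = X.hom := by
    simp only [gl, Category.assoc, hh, Scheme.homOfLE_ι_assoc]
    exact X.left.topIso.inv_hom_id_assoc X.hom
  refine ⟨gl, ⟨hglw, ?_⟩, fun g' ⟨hg', hg'U⟩ => ?_⟩
  · refine Scheme.hom_ext_of_forall _ _ fun u => ⟨U.ι ⁻¹ᵁ V (U.ι u), hxV _, ?_⟩
    let a : (U.ι ⁻¹ᵁ V (U.ι u)).toScheme ⟶ (V (U.ι u)).toScheme := U.ι.resLE _ _ le_rfl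
    have ha : a ≫ (V (U.ι u)).ι = (U.ι ⁻¹ᵁ V (U.ι u)).ι ≫ U.ι := Scheme.Hom.resLE_comp_ι _ _
    rw [← Category.assoc, ← ha, Category.assoc, hgl, hgf _ a _ ha]
  · haveI : IsDominant U.ι := ⟨by rw [DenseRange, Scheme.Opens.range_ι]; exact hU⟩
    refine ext_of_isDominant_of_isSeparated G.hom (hg'.trans hglw.symm) U.ι (hg'U.trans ?_)
    refine (Scheme.hom_ext_of_forall _ _ fun u => ⟨U.ι ⁻¹ᵁ V (U.ι u), hxV _, ?_⟩).symm
    let a : (U.ι ⁻¹ᵁ V (U.ι u)).toScheme ⟶ (V (U.ι u)).toScheme := U.ι.resLE _ _ le_rfl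
    have ha : a ≫ (V (U.ι u)).ι = (U.ι ⁻¹ᵁ V (U.ι u)).ι ≫ U.ι := Scheme.Hom.resLE_comp_ι _ _
    rw [← Category.assoc, ← ha, Category.assoc, hgl, hgf _ a _ ha]

/-- Maps to proper schemes extend in codimension one. -/
theorem exists_extension_codimTwo (hS : ∀ s : S, IsRegularLocalRing (S.presheaf.stalk s))
    {X Y : Over S} [Smooth X.hom] [IsProper Y.hom] (U : X.left.Opens) (hU : Dense (U : Set X.left))
    (f : U.toScheme ⟶ Y.left) (hf : f ≫ Y.hom = U.ι ≫ X.hom) :
    ∃ (V : X.left.Opens) (hUV : U ≤ V) (g : V.toScheme ⟶ Y.left),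
      g ≫ Y.hom = V.ι ≫ X.hom ∧ X.left.homOfLE hUV ≫ g = f ∧
      ∀ x : X.left, Order.coheight x ≤ 1 → x ∈ V := by
  haveI := isReduced_smooth hS X.hom
  haveI : IsLocallyNoetherian X.left := LocallyOfFiniteType.isLocallyNoetherian X.hom
  have key : ∀ x : {x : X.left // Order.coheight x ≤ 1}, ∃ (V : X.left.Opens) (g : V.toScheme ⟶ Y.left),
      x.1 ∈ V ∧ g ≫ Y.hom = V.ι ≫ X.hom ∧
      ∀ {P : Scheme.{u}} (a : P ⟶ V.toScheme) (b : P ⟶ U.toScheme),
        a ≫ V.ι = b ≫ U.ι → a ≫ g = b ≫ f := by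
    rintro ⟨x, hx1⟩
    obtain ⟨X₀, hx, hI, -⟩ := exists_component hS X.hom x
    haveI := hI
    have hgen : genericPoint X₀.toScheme ∈ X₀.ι ⁻¹ᵁ U := by
      obtain ⟨_, hwU, w, rfl⟩ := hU.exists_mem_open X₀.ι.isOpenEmbedding.isOpen_range ⟨_, ⟨⟨x, hx⟩, rfl⟩⟩
      exact RatExtend.genericPoint_mem (X₀.ι ⁻¹ᵁ U) (x := w) hwU
    let X' : Over S := Over.mk (X₀.ι ≫ X.hom)
    haveI : IsIntegral X'.left := hI
    let jX : X' ⟶ X := Over.homMk X₀.ι
    haveI : IsOpenImmersion jX.left := inferInstanceAs (IsOpenImmersion X₀.ι)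
    obtain ⟨V, g, hV, hg, hgf⟩ := exists_piece U f hf jX hgen {⟨x, hx⟩} fun φ hφ y hy => by
      obtain rfl : y = ⟨x, hx⟩ := hy
      haveI : Smooth X'.hom := inferInstanceAs (Smooth (X₀.ι ≫ X.hom))
      let x' : X₀.toScheme := ⟨x, hx⟩
      have hc : Order.coheight x' ≤ 1 := by rw [← coheight_ι]; exact hx1
      haveI : IsLocallyNoetherian X₀.toScheme := isLocallyNoetherian_of_isOpenImmersion X₀.ι
      rcases hc.lt_or_eq with h0 | h0
      · rw [ENat.lt_one_iff_eq_zero, Order.coheight_eq_zero] at h0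
        have h' : x' ⤳ genericPoint X₀.toScheme := h0 (genericPoint_specializes x')
        have he : (⟨x, hx⟩ : X₀.toScheme) = genericPoint X₀.toScheme :=
          (h'.antisymm (genericPoint_specializes x')).eq
        rw [he]
        exact defAt_gen φ
      · haveI : IsLocallyNoetherian X'.left := LocallyOfFiniteType.isLocallyNoetherian X'.hom
        have hN : Pi1.IsNormalScheme X'.left := isNormalScheme hS X'.hom
        have := CDiv6.isDVR_of_coheight_one hN h0
        obtain ⟨χ, hχ, hχ₀⟩ := RatExtend.exists_lift X'.hom Y.hom φ.left (Over.w φ) x' inferInstance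
        exact ⟨Over.homMk χ hχ, Over.OverMorphism.ext hχ₀⟩
    exact ⟨V, g, hV ⟨_, rfl, rfl⟩, hg, hgf⟩
  choose V g hxV hg hgf using key
  let V' : Option {x : X.left // Order.coheight x ≤ 1} → X.left.Opens := fun i => i.elim U V
  obtain ⟨h, hh, hhg⟩ := glue_extensions (I := Option {x : X.left // Order.coheight x ≤ 1}) X.hom
    Y.hom f hU V' (fun | none => f | some i => g i) (fun | none => hf | some i => hg i)
    (fun | none => fun a b hab => congrArg (· ≫ f) ((cancel_mono U.ι).1 hab)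
         | some i => hgf i)
  exact ⟨⨆ i, V' i, le_iSup V' none, h, hh, hhg none,
    fun x hx => Opens.mem_iSup.2 ⟨some ⟨x, hx⟩, hxV _⟩⟩

end Groth.Agent.WeilExt
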