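import Groth.Agent.H23.RatPoint
import Groth.Agent.H23.RatExtend
import Groth.Agent.CDiv6.Factorial
import Groth.Agent.RegLoc6.Normal
import Groth.Agent.S2821
import Groth.Agent.S4991
import Mathlib.AlgebraicGeometry.Morphisms.UniversallyOpen
import Mathlib.AlgebraicGeometry.Fiber
import Mathlib.RingTheory.Ideal.KrullsHeightTheorem

/-!
# Weil's extension theorem for maps into separated group schemes over a regular base

A map defined in codimension at most one and at a generization in the fibre of every point extends.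
-/

set_option autoImplicit false

universe u

open CategoryTheory Limits AlgebraicGeometry TopologicalSpace MonoidalCategory CartesianMonoidalCategory IsLocalRing

open scoped MonObj

namespace Groth.Agent.WeilExt

open H23 H23.RatPoint

variable {S : Scheme.{u}}

/-- smooth over regular is regular -/
theorem isRegularLocalRing_stalk [IsLocallyNoetherian S]
    (hS : ∀ s : S, IsRegularLocalRing (S.presheaf.stalk s)) {Y : Scheme.{u}} (f : Y ⟶ S) [Smooth f]
    (y : Y) : IsRegularLocalRing (Y.presheaf.stalk y) :=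
  (Groth.Agent.S4991.result f y ⟨⊤, trivial, inferInstance⟩).2 (hS _)

theorem isNormalScheme [IsLocallyNoetherian S]
    (hS : ∀ s : S, IsRegularLocalRing (S.presheaf.stalk s)) {Y : Scheme.{u}} (f : Y ⟶ S) [Smooth f] :
    Pi1.IsNormalScheme Y := fun p => by
  haveI := isRegularLocalRing_stalk hS f p
  exact ⟨(Groth.Agent.S2821.result _).1, RegLoc6.isIntegrallyClosed_of_isRegularLocalRing _⟩

/-- A point above `x` and a given generization `ga` of `x` in its fibre, generizing the diagonal
point. -/
theorem exists_generization_pair {X : Scheme.{u}} (f : X ⟶ S) {x ga : X} (hga : ga ⤳ x)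
    (hs : f ga = f x) :
    ∃ z : ↥(pullback f f), pullback.fst f f z = x ∧ pullback.snd f f z = ga ∧
      z ⤳ pullback.diagonal f x := by
  let r := X.fromSpecResidueField x
  let rs := Spec.map (f.residueFieldMap x)
  have hr' : r ≫ f = rs ≫ S.fromSpecResidueField (f x) :=
    (Scheme.Hom.SpecMap_residueFieldMap_fromSpecResidueField f x).symm
  let Fib := pullback rs (f.fiberToSpecResidueField (f x))
  let jm : Fib ⟶ pullback f f := pullback.lift (pullback.fst _ _ ≫ r)
    (pullback.snd _ _ ≫ f.fiberι (f x)) (by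
      rw [Category.assoc, hr', pullback.condition_assoc, Category.assoc]
      congr 1
      exact pullback.condition.symm)
  let xf : Spec (X.residueField x) ⟶ f.fiber (f x) := pullback.lift r rs hr'
  let s : Spec (X.residueField x) ⟶ Fib := pullback.lift (𝟙 _) xf (by
    rw [Category.id_comp]; exact (pullback.lift_snd _ _ _).symm)
  have hsjm : s ≫ jm = r ≫ pullback.diagonal f := by
    apply pullback.hom_ext
    · simp only [s, jm, Category.assoc, pullback.lift_fst, pullback.lift_fst_assoc, Category.id_comp,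
        pullback.diagonal_fst, Category.comp_id]
    · simp only [s, jm, Category.assoc, pullback.lift_snd, pullback.lift_snd_assoc,
        pullback.diagonal_snd, Category.comp_id]
      exact pullback.lift_fst _ _ _
  let t := closedPoint (X.residueField x)
  have hr : ∀ q, r q = x := fun q => by
    have : r q ∈ Set.range r := ⟨q, rfl⟩
    rwa [Scheme.range_fromSpecResidueField] at this
  obtain ⟨gaf, hgaf⟩ : ga ∈ Set.range (f.fiberι (f x)) := by
    rw [Scheme.Hom.range_fiberι]; exact hs
  have hsp : gaf ⤳ pullback.snd rs (f.fiberToSpecResidueField (f x)) (s t) := by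
    rw [← (f.fiberι (f x)).isEmbedding.isInducing.specializes_iff, hgaf]
    convert hga
    have : pullback.snd rs (f.fiberToSpecResidueField (f x)) (s t) = xf t := by
      rw [← Scheme.Hom.comp_apply, pullback.lift_snd]
    rw [this]
    rw [← Scheme.Hom.comp_apply, show xf ≫ f.fiberι (f x) = r from pullback.lift_fst _ _ _]
    exact hr t
  haveI : Flat rs := inferInstance
  obtain ⟨z', hz', hz'ga⟩ := Flat.generalizingMap (pullback.snd rs (f.fiberToSpecResidueField (f x))) hsp
  refine ⟨jm z', ?_, ?_, ?_⟩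
  · rw [← Scheme.Hom.comp_apply, pullback.lift_fst, Scheme.Hom.comp_apply]
    exact hr _
  · rw [← Scheme.Hom.comp_apply, pullback.lift_snd, Scheme.Hom.comp_apply, hz'ga]
    exact hgaf
  · have hst : jm (s t) = pullback.diagonal f x := by
      rw [← Scheme.Hom.comp_apply, hsjm, Scheme.Hom.comp_apply, hr]
    exact hst ▸ hz'.map jm.continuous

variable [IsLocallyNoetherian S] [S.IsSeparated]

/-- The local heart of Weil's extension theorem. -/
theorem defAt_of_codimOne (hS : ∀ s : S, IsRegularLocalRing (S.presheaf.stalk s))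
    {X P G : Over S} [Smooth X.hom] [Smooth P.hom] [IsIntegral X.left] [IsIntegral P.left]
    [GrpObj G] [IsSeparated G.hom] (j : P ⟶ X ⊗ X) [IsOpenImmersion j.left]
    (D : X ⟶ P) (hD : D ≫ j = lift (𝟙 X) (𝟙 X)) (φ : gen X ⟶ G)
    (h1 : ∀ y : X.left, Order.coheight y ≤ 1 → DefAt φ y) (x : X.left)
    (hfib : ∃ ga : X.left, ga ⤳ x ∧ X.hom ga = X.hom x ∧ DefAt φ ga) : DefAt φ x := by
  have : G.left.IsSeparated :=
    ⟨by rw [show terminal.from G.left = G.hom ≫ terminal.from S from (terminal.comp_from G.hom).symm]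
        exact inferInstance⟩
  have : IsLocallyNoetherian P.left := LocallyOfFiniteType.isLocallyNoetherian P.hom
  have : IsLocallyNoetherian X.left := LocallyOfFiniteType.isLocallyNoetherian X.hom
  have hN : Pi1.IsNormalScheme P.left := isNormalScheme hS P.hom
  let p₁ : P ⟶ X := j ≫ fst X X
  let p₂ : P ⟶ X := j ≫ snd X X
  have h₁ : D ≫ p₁ = 𝟙 X := by rw [← Category.assoc, hD, lift_fst]
  have h₂ : D ≫ p₂ = 𝟙 X := by rw [← Category.assoc, hD, lift_snd]
  have hD₁ : ∀ y, p₁.left (D.left y) = y := fun y =>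
    congrArg (fun π : X ⟶ X => π.left y) h₁
  have hD₂ : ∀ y, p₂.left (D.left y) = y := fun y =>
    congrArg (fun π : X ⟶ X => π.left y) h₂
  have hp₁ : p₁.left (genericPoint P.left) ⤳ genericPoint X.left := by
    have := (genericPoint_specializes (D.left (genericPoint X.left))).map p₁.left.continuous
    rwa [hD₁] at this
  have hp₂ : p₂.left (genericPoint P.left) ⤳ genericPoint X.left := by
    have := (genericPoint_specializes (D.left (genericPoint X.left))).map p₂.left.continuous
    rwa [hD₂] at this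
  let F : gen P ⟶ G := pull p₁ hp₁ φ * (pull p₂ hp₂ φ)⁻¹
  let e : X.left → G.left := fun y => (η : 𝟙_ (Over S) ⟶ G).left (X.hom y)
  obtain ⟨W, hW, heW, -⟩ := exists_isAffineOpen_mem_and_subset (x := e x) (U := ⊤) trivial
  have heW' : ∀ y, y ⤳ x → e y ∈ W := fun y hy =>
    ((hy.map X.hom.continuous).map (η : 𝟙_ (Over S) ⟶ G).left.continuous).mem_open W.2 heW
  have hgd : ∀ y, DefAt φ y → ∃ g : spO P (D.left y) ⟶ G,
      res (genericPoint_specializes _) ≫ g = F ∧ g.left (spt _ _) = e y := by
    intro y hy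
    obtain ⟨g₁, hg₁⟩ : DefAt φ (p₁.left (D.left y)) := by rw [hD₁]; exact hy
    obtain ⟨g₂, hg₂⟩ : DefAt φ (p₂.left (D.left y)) := by rw [hD₂]; exact hy
    refine ⟨(stk p₁ _ ≫ g₁) * (stk p₂ _ ≫ g₂)⁻¹, ?_, ?_⟩
    · rw [MonObj.comp_mul, GrpObj.comp_inv, res_stk_eq _ hp₁ φ _ g₁ hg₁, res_stk_eq _ hp₂ φ _ g₂ hg₂]
    · have h := congrArg (fun g : spO X y ⟶ G => g.left (spt X y))
        (ratio_spt D p₁ p₂ h₁ h₂ φ y g₁ g₂ hg₁ hg₂)
      simp only [Over.comp_left, Scheme.Hom.comp_apply, res_spt_stk] at h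
      refine h.trans ((one_apply _).trans ?_)
      show (η : 𝟙_ (Over S) ⟶ G).left ((X.left.fromSpecStalk y ≫ X.hom) (closedPoint _)) = e y
      rw [Scheme.Hom.comp_apply, Scheme.fromSpecStalk_closedPoint]
  obtain ⟨g₀, hg₀, he₀⟩ := hgd _ (defAt_gen φ)
  have hF : Set.range F.left ⊆ W :=
    range_gen_subset g₀ hg₀ (he₀ ▸ heW' _ (genericPoint_specializes x))
  let c := D.left x
  by_cases hFc : DefAt F c
  · -- descend along the first projection
    obtain ⟨ga, hgax, hgas, hga⟩ := hfib
    obtain ⟨w, hw₁, hw₂, hwc⟩ := exists_generization_pair X.hom hgax hgas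
    have hjc : j.left c = pullback.diagonal X.hom x := by
      show (D ≫ j).left x = _
      rw [hD]
      rfl
    obtain ⟨z', rfl⟩ : w ∈ Set.range j.left :=
      hwc.mem_open j.left.isOpenEmbedding.isOpen_range ⟨c, hjc⟩
    have hzc : z' ⤳ c := by
      rw [← j.left.isOpenEmbedding.isInducing.specializes_iff, hjc]
      exact hwc
    have hφ₂ : DefAt (pull p₂ hp₂ φ) z' :=
      DefAt.pull _ hp₂ (by rw [show p₂.left z' = ga from hw₂]; exact hga)
    have hφ₁ : DefAt (pull p₁ hp₁ φ) z' := by
      have := (hFc.generalize hzc).mul hφ₂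
      rwa [inv_mul_cancel_right] at this
    haveI : Flat p₁.left :=
      inferInstanceAs (Flat (j.left ≫ pullback.fst X.hom X.hom))
    exact (show p₁.left z' = x from hw₁) ▸ defAt_of_pull _ hp₁ hφ₁
  -- a pole
  exfalso
  obtain ⟨a, ha⟩ := not_forall.1 fun h => hFc (defAt_of_coord hW hF c h)
  set a' := coord hW F hF a
  have ha0 : a' ≠ 0 := fun h => ha ⟨0, by rw [map_zero, h]⟩
  obtain ⟨y', hy', hy'1, hpole⟩ : ∃ y', y' ⤳ c ∧ Order.coheight y' = 1 ∧ ¬ CDiv6.Reg y' a' := by
    by_contra h
    push Not at h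
    exact ha (CDiv6.reg_of_forall_ord_nonneg hN ha0 fun y' hy' h1 =>
      CDiv6.reg_ord_nonneg ha0 (h y' hy' h1))
  have hkey : ∀ y, y ⤳ x → DefAt φ y → ¬ y' ⤳ D.left y := by
    intro y hyx hy hsp
    obtain ⟨g, hg, he⟩ := hgd y hy
    obtain ⟨b, hb⟩ := coord_mem hW hF g hg (he ▸ heW' y hyx) a
    exact hpole ⟨_, (CDiv6.algebraMap_specializes hsp b).trans hb⟩
  let R := P.left.presheaf.stalk c
  let A := X.left.presheaf.stalk x
  let δ : R →+* A := (D.left.stalkMap x).hom
  haveI : IsRegularLocalRing R := isRegularLocalRing_stalk hS P.hom c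
  haveI : IsDomain R := (Groth.Agent.S2821.result R).1
  haveI : UniqueFactorizationMonoid R := (Groth.Agent.S2821.result R).2
  haveI : IsNoetherianRing A := inferInstance
  set q₀ := CDiv6.primeOf hy' with hq₀
  have hh : q₀.asIdeal.height = 1 := by rw [CDiv6.height_primeOf, hy'1]
  have hne : q₀.asIdeal ≠ ⊥ := fun h => by rw [h, Ideal.height_bot] at hh; exact zero_ne_one hh
  obtain ⟨π, hπ, hpr⟩ := q₀.isPrime.exists_mem_prime_of_ne_bot hne
  haveI : (Ideal.span {π}).IsPrime := (Ideal.span_singleton_prime hpr.ne_zero).2 hpr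
  have hspan : Ideal.span {π} = q₀.asIdeal :=
    CDiv6.eq_of_le_of_height_one (by simp [hpr.ne_zero])
      (by rwa [Ideal.span_le, Set.singleton_subset_iff]) hh
  have hπm : δ π ∈ maximalIdeal A := by
    rw [IsLocalRing.mem_maximalIdeal, mem_nonunits_iff]
    haveI : IsLocalHom δ := inferInstanceAs (IsLocalHom (D.left.stalkMap x).hom)
    exact fun h => hpr.not_unit (isUnit_of_map_unit δ π h)
  obtain ⟨qA, hqA, -⟩ := Ideal.exists_minimalPrimes_le
    (show Ideal.span {δ π} ≤ maximalIdeal A by rwa [Ideal.span_le, Set.singleton_subset_iff])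
  haveI := hqA.1.1
  let qP : PrimeSpectrum A := ⟨qA, inferInstance⟩
  let y := X.left.fromSpecStalk x qP
  have hyx : y ⤳ x := CDiv6.fromSpecStalk_specializes qP
  have hy1 : Order.coheight y ≤ 1 := by
    rw [← CDiv6.height_primeOf hyx, CDiv6.primeOf_fromSpecStalk]
    exact Ideal.height_le_one_of_isPrincipal_of_mem_minimalPrimes _ qA hqA
  refine hkey y hyx (h1 y hy1) ?_
  have hDy : D.left y = P.left.fromSpecStalk c (PrimeSpectrum.comap δ qP) :=
    (congrArg (fun m => m qP) (Scheme.SpecMap_stalkMap_fromSpecStalk D.left (x := x))).symm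
  rw [hDy, ← CDiv6.fromSpecStalk_primeOf hy']
  refine ((PrimeSpectrum.le_iff_specializes q₀ (PrimeSpectrum.comap δ qP)).1 ?_).map
    (P.left.fromSpecStalk c).continuous
  show q₀.asIdeal ≤ qA.comap δ
  rw [← hspan, Ideal.span_le, Set.singleton_subset_iff]
  exact hqA.1.2 (Ideal.mem_span_singleton_self _)

end Groth.Agent.WeilExt
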